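import Cfsg.Agent.Lib.FusionSystem.DoubleCoverEight.Perms
import Cfsg.Agent.Lib.FusionSystem.GroupSimpleLocal

/-!
The 2-fusion system of a finite group with one class of involutions, an involution centraliser being a double
cover of the alternating group of degree eight, is simple.
-/

set_option autoImplicit false
set_option linter.unusedSectionVars false
set_option linter.style.haveILetI false

namespace CfsgLib.Fsys.DoubleCoverEight

open Equiv

theorem eq_of_involutions {σ τ : Perm (Fin 8)} (hσ : σ * σ = 1) (hτ : τ * τ = 1) (hσ1 : σ ≠ 1) (hτ1 : τ ≠ 1)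
    (h : σ.support.card = τ.support.card) : IsConj σ τ := by
  haveI := Fact.mk Nat.prime_two
  have ho : ∀ π : Perm (Fin 8), π * π = 1 → π ≠ 1 → ∃ n, π.cycleType = Multiset.replicate n 2 ∧ π.support.card = 2 * n := by
    intro π hπ hπ1
    obtain ⟨n, hn⟩ := Perm.cycleType_prime_order
      (by rw [orderOf_eq_prime (by rw [pow_two]; exact hπ) hπ1]; exact Nat.prime_two)
    rw [orderOf_eq_prime (by rw [pow_two]; exact hπ) hπ1] at hn
    exact ⟨n + 1, hn, by rw [← Perm.sum_cycleType, hn, Multiset.sum_replicate, smul_eq_mul, mul_comm]⟩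
  obtain ⟨n, hn, hn'⟩ := ho σ hσ hσ1
  obtain ⟨m, hm, hm'⟩ := ho τ hτ hτ1
  rw [Perm.isConj_iff_cycleType_eq, hn, hm]
  congr 1
  omega

theorem even_conj {σ τ c : Perm (Fin 8)} (h : IsConj σ τ) (hc : Perm.sign c = -1) (hcσ : c * σ * c⁻¹ = σ) :
    ∃ g, Perm.sign g = 1 ∧ g * σ * g⁻¹ = τ := by
  obtain ⟨g, hg⟩ := _root_.isConj_iff.1 h
  rcases Int.units_eq_one_or (Perm.sign g) with hs | hs
  · exact ⟨g, hs, hg⟩
  · refine ⟨g * c, by rw [map_mul, hs, hc]; rfl, ?_⟩
    rw [show g * c * σ * (g * c)⁻¹ = g * (c * σ * c⁻¹) * g⁻¹ by group, hcσ, hg]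

theorem eq_cand_perm {σ : Perm (Fin 8)} (h : ∀ i, σ (flip1 i) = flip1 (σ i)) :
    ⇑σ = cand (σ 0) (σ 2) (σ 4) (σ 6) ∧ Function.Injective (cand (σ 0) (σ 2) (σ 4) (σ 6)) := by
  have e := eq_cand h
  exact ⟨e, e ▸ σ.injective⟩

theorem tree_word {σ : Perm (Fin 8)} (hσ : σ ∈ P) : ∃ e, σ = word e := by
  obtain ⟨ht, hA⟩ := Subgroup.mem_inf.1 hσ
  obtain ⟨e, hinj⟩ := eq_cand_perm (σ := σ) ht.1
  obtain ⟨v, hv | hv⟩ := cand_word _ _ _ _ (e ▸ ht) hinj
  · exact ⟨v, Equiv.coe_fn_injective (e.trans hv)⟩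
  · exfalso
    have hw : Perm.sign (word v) = 1 := by
      rw [word, map_list_prod]
      refine List.prod_eq_one fun x hx => ?_
      obtain ⟨y, hy, rfl⟩ := List.mem_map.1 hx
      obtain ⟨k, rfl⟩ := List.mem_ofFn.1 hy
      split_ifs
      · exact (gens_spec k).2.1
      · exact map_one _
    have he : σ = word v * Equiv.swap 0 1 := Equiv.ext fun i => by
      rw [congrFun (e.trans hv) i, Function.comp_apply, Perm.mul_apply]
      congr 1
      revert i; decide
    rw [Perm.mem_alternatingGroup, he, map_mul, hw, Perm.sign_swap (by decide)] at hA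
    exact absurd hA (by decide)

theorem tree_pow {σ : Perm (Fin 8)} (hσ : σ ∈ P) : σ ^ 8 = 1 := by
  obtain ⟨ht, -⟩ := Subgroup.mem_inf.1 hσ
  obtain ⟨e, hinj⟩ := eq_cand_perm (σ := σ) ht.1
  refine Equiv.coe_fn_injective ?_
  have h := cand_props _ _ _ _ (e ▸ ht) hinj
  rw [← e] at h
  simpa [pow_succ, Perm.coe_mul, Function.comp_assoc] using h

theorem gens_mem (k : Fin 6) : gens k ∈ P :=
  ⟨(gens_spec k).1, Perm.mem_alternatingGroup.2 (gens_spec k).2.1⟩

theorem center_P {σ : Perm (Fin 8)} (hσ : σ ∈ P) (hc : ∀ k, σ * gens k = gens k * σ) : σ = 1 ∨ σ = z := by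
  obtain ⟨ht, -⟩ := Subgroup.mem_inf.1 hσ
  obtain ⟨e, hinj⟩ := eq_cand_perm (σ := σ) ht.1
  rcases cand_center _ _ _ _ (e ▸ ht) hinj (fun k => by
    rw [← e, ← Perm.coe_mul, ← Perm.coe_mul, hc k]) with h | h
  · exact Or.inl (Equiv.coe_fn_injective (e.trans h))
  · exact Or.inr (Equiv.coe_fn_injective (e.trans h))

theorem small_facts :
    z ∈ P ∧ z1 ∈ P ∧ w ∈ P ∧ z * z1 = z1 * z ∧ (∀ k, z * gens k = gens k * z) ∧
    z.support.card = 8 ∧ z1.support.card = 8 ∧ (z * z1).support.card = 4 ∧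
    Equiv.swap (0 : Fin 8) 1 * z * (Equiv.swap (0 : Fin 8) 1)⁻¹ = z ∧
    Equiv.swap (4 : Fin 8) 5 * (z * z1) * (Equiv.swap (4 : Fin 8) 5)⁻¹ = z * z1 ∧
    v1 * v2 = v2 * v1 ∧ z * v1 = v1 * z ∧ z * v2 = v2 * z ∧ v1 ∈ P ∧ v2 ∈ P ∧
    z * v1 ≠ 1 ∧ z * v1 * v2 ≠ 1 ∧ z * z = 1 ∧ z1 * z1 = 1 ∧ v1 * v1 = 1 ∧ v2 * v2 = 1 := by
  refine ⟨⟨?_, ?_⟩, ⟨?_, ?_⟩, ⟨?_, ?_⟩, ?_, ?_, ?_, ?_, ?_, ?_, ?_, ?_, ?_, ?_, ⟨?_, ?_⟩, ⟨?_, ?_⟩, ?_, ?_, ?_, ?_, ?_, ?_⟩
  all_goals first
    | decide +kernel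
    | (show TreeFun _; decide +kernel)
    | (refine Perm.mem_alternatingGroup.2 ?_; decide +kernel)

theorem v_supports : v1.support.card = 8 ∧ v2.support.card = 8 ∧ (z * v1).support.card = 8 ∧
    (z * v2).support.card = 8 ∧ (v1 * v2).support.card = 8 ∧ (z * v1 * v2).support.card = 8 ∧
    ∀ k, (gens k).support.card = 8 := by decide +kernel

variable {G : Type*} [Group G] [Finite G]

/-- The data: an involution whose centraliser maps onto the alternating group with kernel generated by it,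
one of whose elements squares to it; all involutions are conjugate. -/
structure Setup (G : Type*) [Group G] where
  t : G
  pr : Subgroup.centralizer ({t} : Set G) →* Perm (Fin 8)
  ord : orderOf t = 2
  range_eq : pr.range = alternatingGroup (Fin 8)
  ker_iff : ∀ c, pr c = 1 ↔ ((c : G) = 1 ∨ (c : G) = t)
  root : ∃ y : Subgroup.centralizer ({t} : Set G), (y : G) * y = t
  conj : ∀ x : G, orderOf x = 2 → IsConj t x

namespace Setup

variable (D : Setup G)

theorem tt : D.t * D.t = 1 := by rw [← pow_two, ← D.ord, pow_orderOf_eq_one]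

theorem t_ne : D.t ≠ 1 := fun h => by
  have := D.ord
  rw [h, orderOf_one] at this
  omega

theorem exists_lift {σ : Perm (Fin 8)} (h : Perm.sign σ = 1) : ∃ c, D.pr c = σ := by
  have : σ ∈ D.pr.range := D.range_eq ▸ Perm.mem_alternatingGroup.2 h
  exact this

theorem pr_sign (c : Subgroup.centralizer ({D.t} : Set G)) : Perm.sign (D.pr c) = 1 :=
  Perm.mem_alternatingGroup.1 (D.range_eq ▸ ⟨c, rfl⟩)

theorem comm_t (c : Subgroup.centralizer ({D.t} : Set G)) : (c : G) * D.t = D.t * c :=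
  Subgroup.mem_centralizer_singleton_iff.1 c.2

theorem pr_eq {a b : Subgroup.centralizer ({D.t} : Set G)} (h : D.pr a = D.pr b) :
    (a : G) = b ∨ (a : G) = b * D.t := by
  rcases (D.ker_iff (b⁻¹ * a)).1 (by rw [map_mul, map_inv, h, inv_mul_cancel]) with e | e
  · exact Or.inl (inv_mul_eq_one.1 e).symm
  · exact Or.inr (inv_mul_eq_iff_eq_mul.1 e)

/-- Every lift of the permutation is an involution. -/
def Inv (σ : Perm (Fin 8)) : Prop :=
  ∀ c : Subgroup.centralizer ({D.t} : Set G), D.pr c = σ → (c : G) * c = 1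

theorem inv_of_one {σ : Perm (Fin 8)} {c : Subgroup.centralizer ({D.t} : Set G)} (hc : D.pr c = σ)
    (h : (c : G) * c = 1) : D.Inv σ := by
  intro a ha
  rcases D.pr_eq (ha.trans hc.symm) with e | e <;> rw [e]
  · exact h
  · rw [show (c : G) * D.t * (c * D.t) = c * (D.t * c) * D.t by group, ← D.comm_t c,
      show (c : G) * (c * D.t) * D.t = c * c * (D.t * D.t) by group, h, D.tt, one_mul]

theorem inv_conj {σ g : Perm (Fin 8)} (h : D.Inv σ) (hg : Perm.sign g = 1) : D.Inv (g * σ * g⁻¹) := by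
  intro a ha
  obtain ⟨u, hu⟩ := D.exists_lift hg
  have := h (u⁻¹ * a * u) (by rw [map_mul, map_mul, map_inv, ha, hu]; group)
  have e : ((u : G)⁻¹ * a * u) * ((u : G)⁻¹ * a * u) = 1 := this
  calc (a : G) * a = u * (((u : G)⁻¹ * a * u) * ((u : G)⁻¹ * a * u)) * (u : G)⁻¹ := by group
    _ = 1 := by rw [e, mul_one, mul_inv_cancel]

theorem sq_cases {σ : Perm (Fin 8)} (h : σ * σ = 1) {c : Subgroup.centralizer ({D.t} : Set G)}
    (hc : D.pr c = σ) : (c : G) * c = 1 ∨ (c : G) * c = D.t :=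
  (D.ker_iff (c * c)).1 (by rw [map_mul, hc, h])

theorem inv_z : D.Inv z := by
  obtain ⟨hzP, -, -, -, -, hz8, -, -, hsw, -, h12, hz1, hz2, hv1, hv2, -, -, hzz, -, hv11, hv22⟩ := small_facts
  obtain ⟨s1, s2, s3, s4, s5, s6, -⟩ := v_supports
  have hzs := Perm.mem_alternatingGroup.1 (Subgroup.mem_inf.1 hzP).2
  have hv1s := Perm.mem_alternatingGroup.1 (Subgroup.mem_inf.1 hv1).2
  have hv2s := Perm.mem_alternatingGroup.1 (Subgroup.mem_inf.1 hv2).2
  have hne : ∀ {σ : Perm (Fin 8)}, σ.support.card = 8 → σ ≠ 1 := fun {σ} h e => by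
    rw [e, Perm.support_one] at h
    simp at h
  by_contra hbad
  have hlift : ∀ {σ : Perm (Fin 8)}, σ * σ = 1 → σ.support.card = 8 → ∀ c, D.pr c = σ → (c : G) * c = D.t := by
    intro σ hσ hs c hc
    refine (D.sq_cases hσ hc).resolve_left fun h1 => hbad ?_
    obtain ⟨g, hg, hgz⟩ := even_conj (eq_of_involutions hzz hσ (hne hz8) (hne hs) (hz8.trans hs.symm))
      (Perm.sign_swap (by decide)) hsw
    have := D.inv_conj (D.inv_of_one hc h1) (g := g⁻¹) (by rw [map_inv, hg, inv_one])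
    rwa [← hgz, show g⁻¹ * (g * z * g⁻¹) * g⁻¹⁻¹ = z by group] at this
  obtain ⟨a, ha⟩ := D.exists_lift hzs
  obtain ⟨b, hb⟩ := D.exists_lift hv1s
  obtain ⟨c, hc⟩ := D.exists_lift hv2s
  have ea := hlift hzz hz8 a ha
  have eb := hlift hv11 s1 b hb
  have ec := hlift hv22 s2 c hc
  have sq : ∀ {σ τ : Perm (Fin 8)}, σ * τ = τ * σ → σ * σ = 1 → τ * τ = 1 → σ * τ * (σ * τ) = 1 := by
    intro σ τ h h1 h2
    rw [show σ * τ * (σ * τ) = σ * (τ * σ) * τ by group, ← h, show σ * (σ * τ) * τ = σ * σ * (τ * τ) by group,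
      h1, h2, one_mul]
  have eab := hlift (sq hz1 hzz hv11) s3 (a * b) (by rw [map_mul, ha, hb])
  have eac := hlift (sq hz2 hzz hv22) s4 (a * c) (by rw [map_mul, ha, hc])
  have ebc := hlift (sq h12 hv11 hv22) s5 (b * c) (by rw [map_mul, hb, hc])
  have eabc := hlift (sq (by rw [mul_assoc, h12, ← mul_assoc, hz2, mul_assoc]) (sq hz1 hzz hv11) hv22) s6 (a * b * c)
    (by rw [map_mul, map_mul, ha, hb, hc])
  simp only [Subgroup.coe_mul] at eab eac ebc eabc
  have tc : ∀ u : Subgroup.centralizer ({D.t} : Set G), D.t * (u : G) = u * D.t := fun u => (D.comm_t u).symm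
  have swap : ∀ {u v : Subgroup.centralizer ({D.t} : Set G)}, (u : G) * u = D.t → (v : G) * v = D.t →
      (u : G) * v * (u * v) = D.t → (v : G) * u = u * v * D.t := by
    intro u v hu hv huv
    apply mul_left_cancel (a := (u : G))
    apply mul_right_cancel (b := (v : G))
    calc (u : G) * (v * u) * v = u * v * (u * v) := by group
      _ = D.t := huv
      _ = D.t * (D.t * D.t) := by rw [D.tt, mul_one]
      _ = u * u * ((v : G) * v * D.t) := by rw [hu, hv]
      _ = u * (u * v * D.t) * v := by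
          rw [show (u : G) * (u * v * D.t) * v = u * u * v * (D.t * v) by group, tc v]
          group
  have hba := swap ea eb eab
  have hca := swap ea ec eac
  have hcb := swap eb ec ebc
  refine D.t_ne ?_
  rw [← eabc]
  calc (a : G) * b * c * (a * b * c) = a * b * (c * a) * b * c := by group
    _ = a * b * a * c * (D.t * b) * c := by rw [hca]; group
    _ = a * b * a * (c * b) * (D.t * c) := by rw [tc b]; group
    _ = a * b * a * b * c * (D.t * (D.t * c)) := by rw [hcb]; group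
    _ = a * b * (a * b) * (c * c) := by rw [← mul_assoc D.t D.t, D.tt, one_mul]; group
    _ = 1 := by rw [eab, ec, D.tt]

/-- The Sylow 2-subgroup. -/
def S : Subgroup G := (P.comap D.pr).map (Subgroup.centralizer ({D.t} : Set G)).subtype

theorem mem_S {x : G} : x ∈ D.S ↔ ∃ c, D.pr c ∈ P ∧ (c : G) = x :=
  ⟨fun ⟨c, hc, he⟩ => ⟨c, hc, he⟩, fun ⟨c, hc, he⟩ => ⟨c, hc, he⟩⟩

theorem t_mem : D.t ∈ D.S := by
  refine D.mem_S.2 ⟨⟨D.t, Subgroup.mem_centralizer_singleton_iff.2 rfl⟩, ?_, rfl⟩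
  rw [(D.ker_iff _).2 (Or.inr rfl)]
  exact one_mem _

theorem isPGroup_S : IsPGroup 2 D.S := by
  rintro ⟨x, hx⟩
  obtain ⟨c, hc, rfl⟩ := D.mem_S.1 hx
  refine ⟨4, Subtype.ext ?_⟩
  show (c : G) ^ (2 ^ 4) = 1
  have h8 : D.pr (c ^ 8) = 1 := by rw [map_pow, tree_pow hc]
  rw [show (2 : ℕ) ^ 4 = 8 + 8 from rfl, pow_add]
  rcases (D.ker_iff _).1 h8 with e | e <;> rw [SubgroupClass.coe_pow] at e <;> rw [e]
  · exact one_mul 1
  · exact D.tt

theorem central_eq {x : G} (hx : x ∈ D.S) (hord : orderOf x = 2) (hc : ∀ y ∈ D.S, x * y = y * x) : x = D.t := by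
  obtain ⟨hzP, hz1P, -, hzz1, -, hz8, hz18, hd4, hsw, hsw', -, -, -, -, -, -, -, hzz, hz11, -, -⟩ := small_facts
  obtain ⟨a, ha, rfl⟩ := D.mem_S.1 hx
  have hsq : (a : G) * a = 1 := by rw [← pow_two, ← hord, pow_orderOf_eq_one]
  have hcen : ∀ k, D.pr a * gens k = gens k * D.pr a := fun k => by
    obtain ⟨g, hg⟩ := D.exists_lift (gens_spec k).2.1
    have h := hc g (D.mem_S.2 ⟨g, hg ▸ gens_mem k, rfl⟩)
    rw [← hg, ← map_mul, ← map_mul, show a * g = g * a from Subtype.ext h]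
  rcases center_P ha hcen with h1 | haz
  · rcases (D.ker_iff a).1 h1 with e | e
    · exfalso; rw [e, orderOf_one] at hord; omega
    · exact e
  exfalso
  obtain ⟨b, hb⟩ := D.exists_lift (σ := z1) (Perm.mem_alternatingGroup.1 (Subgroup.mem_inf.1 hz1P).2)
  have hbb : (b : G) * b = 1 := by
    obtain ⟨g, hg, hgz⟩ := even_conj (eq_of_involutions hzz hz11 (fun e => by rw [e] at hz8; simp at hz8)
      (fun e => by rw [e] at hz18; simp at hz18) (hz8.trans hz18.symm)) (Perm.sign_swap (by decide)) hsw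
    exact (hgz ▸ D.inv_conj D.inv_z hg : D.Inv z1) b hb
  have hab := hc b (D.mem_S.2 ⟨b, hb ▸ hz1P, rfl⟩)
  have hd : D.Inv (z * z1) := D.inv_of_one (c := a * b) (by rw [map_mul, haz, hb]) (by
    show (a : G) * b * (a * b) = 1
    rw [show (a : G) * b * (a * b) = a * (b * a) * b by group, ← hab,
      show (a : G) * (a * b) * b = a * a * (b * b) by group, hsq, hbb, one_mul])
  obtain ⟨y, hy⟩ := D.root
  have hyy : D.pr y * D.pr y = 1 := by
    rw [← map_mul]; exact (D.ker_iff _).2 (Or.inr hy)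
  have hy1 : D.pr y ≠ 1 := fun e => by
    rcases (D.ker_iff y).1 e with e' | e' <;> rw [e'] at hy
    · exact D.t_ne (by rw [← hy, one_mul])
    · exact D.t_ne (by rw [← hy, D.tt])
  have hdd : z * z1 * (z * z1) = 1 := by
    rw [show z * z1 * (z * z1) = z * (z1 * z) * z1 by group, ← hzz1,
      show z * (z * z1) * z1 = z * z * (z1 * z1) by group, hzz, hz11, one_mul]
  have hd1 : z * z1 ≠ 1 := fun e => by rw [e] at hd4; simp at hd4
  -- the class of the root
  haveI := Fact.mk Nat.prime_two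
  have hcard : (D.pr y).support.card = 4 ∨ (D.pr y).support.card = 8 := by
    obtain ⟨n, hn⟩ := Perm.cycleType_prime_order
      (by rw [orderOf_eq_prime (by rw [pow_two]; exact hyy) hy1]; exact Nat.prime_two)
    rw [orderOf_eq_prime (by rw [pow_two]; exact hyy) hy1] at hn
    have hsum : (D.pr y).support.card = (n + 1) * 2 := by
      rw [← Perm.sum_cycleType, hn, Multiset.sum_replicate, smul_eq_mul]
    have hle : (D.pr y).support.card ≤ 8 := (Finset.card_le_univ _).trans (by simp)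
    have hsign := D.pr_sign y
    rw [Perm.sign_of_cycleType, hn, Multiset.card_replicate, Multiset.sum_replicate, smul_eq_mul] at hsign
    obtain rfl | rfl | rfl | rfl : n = 0 ∨ n = 1 ∨ n = 2 ∨ n = 3 := by omega
    · exact absurd hsign (by decide)
    · exact Or.inl (by omega)
    · exact absurd hsign (by decide)
    · exact Or.inr (by omega)
  have hone : (y : G) * y = 1 := by
    rcases hcard with h | h
    · obtain ⟨g, hg, hge⟩ := even_conj (eq_of_involutions hdd hyy hd1 hy1 (hd4.trans h.symm))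
        (Perm.sign_swap (by decide)) hsw'
      exact (hge ▸ D.inv_conj hd hg : D.Inv (D.pr y)) y rfl
    · obtain ⟨g, hg, hge⟩ := even_conj (eq_of_involutions hzz hyy (fun e => by rw [e] at hz8; simp at hz8) hy1
        (hz8.trans h.symm)) (Perm.sign_swap (by decide)) hsw
      exact (hge ▸ D.inv_conj D.inv_z hg : D.Inv (D.pr y)) y rfl
  exact D.t_ne (hy.symm.trans hone)

theorem normalizer_le : Subgroup.normalizer (D.S : Set G) ≤ D.S := by
  intro n hn
  have hn' : ∀ x, x ∈ D.S ↔ n * x * n⁻¹ ∈ D.S := fun x => Subgroup.mem_normalizer_iff.1 hn x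
  obtain ⟨hzP, -, hwP, -, hzc, -, -, -, -, -, -, -, -, -, -, -, -, -, -, -, -⟩ := small_facts
  have htc : ∀ y ∈ D.S, D.t * y = y * D.t := by
    intro y hy
    obtain ⟨c, -, rfl⟩ := D.mem_S.1 hy
    exact (D.comm_t c).symm
  have ht : n * D.t * n⁻¹ = D.t := by
    refine D.central_eq ((hn' _).1 D.t_mem) ?_ fun y hy => ?_
    · exact ((MulAut.conj n).orderOf_eq D.t).trans D.ord
    · have h := htc (n⁻¹ * y * n) ((hn' _).2 (by simpa [mul_assoc] using hy))
      calc n * D.t * n⁻¹ * y = n * (D.t * (n⁻¹ * y * n)) * n⁻¹ := by group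
        _ = y * (n * D.t * n⁻¹) := by rw [h]; group
  let c : Subgroup.centralizer ({D.t} : Set G) :=
    ⟨n, Subgroup.mem_centralizer_singleton_iff.2 (mul_inv_eq_iff_eq_mul.1 ht)⟩
  have hconj : ∀ σ ∈ P, D.pr c * σ * (D.pr c)⁻¹ ∈ P := by
    intro σ hσ
    obtain ⟨a, rfl⟩ := D.exists_lift (σ := σ) (Perm.mem_alternatingGroup.1 (Subgroup.mem_inf.1 hσ).2)
    obtain ⟨b, hb, hbe⟩ := D.mem_S.1 ((hn' _).1 (D.mem_S.2 ⟨a, hσ, rfl⟩))
    rwa [← map_inv, ← map_mul, ← map_mul, ← show b = c * a * c⁻¹ from Subtype.ext hbe]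
  -- the image commutes with the pairing
  have hcz : D.pr c * z * (D.pr c)⁻¹ = z := by
    refine (center_P (hconj z hzP) fun k => ?_).resolve_left fun e => ?_
    · have hsurj : ∀ τ ∈ P, ∃ σ ∈ P, D.pr c * σ * (D.pr c)⁻¹ = τ := by
        intro τ hτ
        have hmap : P.map (MulAut.conj (D.pr c)).toMonoidHom = P := by
          refine Subgroup.eq_of_le_of_card_ge (Subgroup.map_le_iff_le_comap.2 fun σ hσ => hconj σ hσ) ?_
          rw [Subgroup.card_map_of_injective (MulAut.conj (D.pr c)).injective]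
        rw [← hmap] at hτ
        exact hτ
      obtain ⟨σ, hσ, hσe⟩ := hsurj _ (gens_mem k)
      have hzσ : z * σ = σ * z := by
        refine Equiv.ext fun i => ?_
        exact ((Subgroup.mem_inf.1 hσ).1.1 i).symm
      rw [← hσe]
      calc D.pr c * z * (D.pr c)⁻¹ * (D.pr c * σ * (D.pr c)⁻¹) = D.pr c * (z * σ) * (D.pr c)⁻¹ := by group
        _ = _ := by rw [hzσ]; group
    · rw [mul_inv_eq_one, mul_eq_left] at e
      exact absurd e (by decide)
  have hflip : ∀ i, D.pr c (flip1 i) = flip1 (D.pr c i) := fun i =>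
    Equiv.congr_fun (mul_inv_eq_iff_eq_mul.1 hcz) i
  obtain ⟨e, hinj⟩ := eq_cand_perm hflip
  have hcw : ∀ i j, half (D.pr c i) = half (D.pr c j) → half (D.pr c (w i)) = half (D.pr c (w j)) := by
    intro i j hij
    have h := (Subgroup.mem_inf.1 (hconj w hwP)).1.2 _ _ hij
    simpa [Perm.mul_apply] using h
  rw [e] at hcw
  have hhalf := cand_norm _ _ _ _ hinj hcw
  rw [← e] at hhalf
  exact D.mem_S.2 ⟨c, ⟨⟨hflip, hhalf⟩, Perm.mem_alternatingGroup.2 (D.pr_sign c)⟩, rfl⟩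

theorem closed_eq {T : Subgroup G} (hT : T ≤ D.S) (hne : T ≠ ⊥)
    (hcl : ∀ g x : G, x ∈ T → g * x * g⁻¹ ∈ D.S → g * x * g⁻¹ ∈ T) : D.S ≤ T := by
  haveI := Fact.mk Nat.prime_two
  have hTp : IsPGroup 2 T := D.isPGroup_S.to_le hT
  have hdvd : 2 ∣ Nat.card T := by
    obtain ⟨k, hk⟩ := hTp.exists_card_eq
    rcases k with _ | k
    · exact absurd (Subgroup.card_eq_one.1 (by rw [hk, pow_zero])) hne
    · exact hk ▸ dvd_pow_self 2 (Nat.succ_ne_zero k)
  obtain ⟨u, hu⟩ := exists_prime_orderOf_dvd_card' 2 hdvd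
  rw [← Subgroup.orderOf_coe] at hu
  have hinvol : ∀ x ∈ D.S, orderOf x = 2 → x ∈ T := by
    intro x hx hxo
    obtain ⟨g, hg⟩ := _root_.isConj_iff.1 ((D.conj _ hu).symm.trans (D.conj x hxo))
    exact hg ▸ hcl g _ u.2 (hg.symm ▸ hx)
  have ht : D.t ∈ T := hinvol _ D.t_mem D.ord
  obtain ⟨-, -, -, -, -, hz8, -, -, hsw, -, -, -, -, -, -, -, -, hzz, -, -, -⟩ := small_facts
  have hgen : ∀ k, ∀ g : Subgroup.centralizer ({D.t} : Set G), D.pr g = gens k → (g : G) ∈ T := by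
    intro k g hg
    have hk := v_supports.2.2.2.2.2.2 k
    obtain ⟨s, hs, hse⟩ := even_conj (eq_of_involutions hzz (gens_spec k).2.2.1 (fun e => by rw [e] at hz8; simp at hz8)
      (fun e => by rw [e] at hk; simp at hk) (hz8.trans hk.symm)) (Perm.sign_swap (by decide)) hsw
    have hgg : (g : G) * g = 1 := (hse ▸ D.inv_conj D.inv_z hs : D.Inv (gens k)) g hg
    refine hinvol _ (D.mem_S.2 ⟨g, hg ▸ gens_mem k, rfl⟩) (orderOf_eq_prime (by rw [pow_two]; exact hgg) fun e => ?_)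
    have h1 : g = 1 := Subtype.ext e
    rw [h1, map_one] at hg
    rw [← hg] at hk
    simp at hk
  choose L hL using fun k => D.exists_lift (gens_spec k).2.1
  intro x hx
  obtain ⟨a, ha, rfl⟩ := D.mem_S.1 hx
  obtain ⟨v, hv⟩ := tree_word ha
  let b : Subgroup.centralizer ({D.t} : Set G) := (List.ofFn fun k => if v k then L k else 1).prod
  have hb : D.pr b = D.pr a := by
    rw [hv, word, map_list_prod, List.map_ofFn]
    congr 1
    refine List.ofFn_inj.2 (funext fun k => ?_)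
    show D.pr (if v k then L k else 1) = _
    split_ifs
    · exact hL k
    · exact map_one _
  have hbT : b ∈ T.comap (Subgroup.centralizer ({D.t} : Set G)).subtype := by
    refine list_prod_mem fun y hy => ?_
    obtain ⟨k, rfl⟩ := List.mem_ofFn.1 hy
    split_ifs
    · exact hgen k _ (hL k)
    · exact one_mem _
  rcases D.pr_eq hb.symm with e | e <;> rw [e]
  · exact hbT
  · exact mul_mem hbT ht

theorem isSimple (D : Setup G) (S₀ : Sylow 2 G) :
    (Cfsg.groupFusionSystem (S₀ : Subgroup G)).IsSimple 2 := by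
  haveI := Fact.mk Nat.prime_two
  obtain ⟨R, hR⟩ := IsPGroup.exists_le_sylow D.isPGroup_S
  have hSR : D.S = R := by
    refine le_antisymm hR ?_
    by_contra hne
    haveI : Group.IsNilpotent ↥(R : Subgroup G) := R.2.isNilpotent
    have hlt : D.S.subgroupOf R < ⊤ := lt_top_iff_ne_top.2 fun h => hne (Subgroup.subgroupOf_eq_top.1 h)
    have hnc : NormalizerCondition ↥(R : Subgroup G) := Group.normalizerCondition_of_isNilpotent
    obtain ⟨n, hn, hn'⟩ := SetLike.exists_of_lt (hnc _ hlt)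
    refine hn' (Subgroup.mem_subgroupOf.2 (D.normalizer_le (Subgroup.mem_normalizer_iff.2 fun x => ?_)))
    constructor
    · intro hx
      exact (Subgroup.mem_normalizer_iff.1 hn ⟨x, hR hx⟩).1 hx
    · intro hx
      have hxR : x ∈ (R : Subgroup G) := by
        have := mul_mem (mul_mem (inv_mem n.2) (hR hx)) n.2
        simpa [mul_assoc] using this
      exact (Subgroup.mem_normalizer_iff.1 hn ⟨x, hxR⟩).2 hx
  obtain ⟨g, rfl⟩ := MulAction.exists_smul_eq G R S₀
  have hmem : ∀ x, x ∈ (g • R : Sylow 2 G) ↔ g⁻¹ * x * g ∈ D.S := fun x => by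
    rw [hSR]
    exact Subgroup.mem_pointwise_smul_iff_inv_smul_mem.trans (by simp [MulAut.smul_def, mul_assoc])
  refine GroupSimpleLocal.isSimple _ (fun hbot => ?_) (fun T hT hne hcl x hx => ?_)
    (fun n hn => Subgroup.subset_closure (Or.inl ?_))
  · have h := (hmem (g * D.t * g⁻¹)).2 (by simpa [mul_assoc] using D.t_mem)
    have h' : g * D.t * g⁻¹ ∈ ((g • R : Sylow 2 G) : Subgroup G) := h
    rw [hbot, Subgroup.mem_bot, conj_eq_one_iff] at h'
    exact D.t_ne h'
  · have := D.closed_eq (T := T.map (MulAut.conj g⁻¹).toMonoidHom) (fun y hy => by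
      obtain ⟨u, hu, rfl⟩ := hy
      simpa [mul_assoc] using (hmem u).1 (hT hu))
      (fun h => hne ((Subgroup.map_eq_bot_iff_of_injective _ (MulAut.conj g⁻¹).injective).1 h))
      (fun a y hy ha => by
        obtain ⟨u, hu, rfl⟩ := hy
        refine ⟨(g * a * g⁻¹) * u * (g * a * g⁻¹)⁻¹, hcl _ u hu ((hmem _).2 ?_), ?_⟩
        · convert ha using 1
          show _ = a * (g⁻¹ * u * g⁻¹⁻¹) * a⁻¹
          group
        · show g⁻¹ * (g * a * g⁻¹ * u * (g * a * g⁻¹)⁻¹) * g⁻¹⁻¹ = a * (g⁻¹ * u * g⁻¹⁻¹) * a⁻¹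
          group) ((hmem x).1 hx)
    obtain ⟨u, hu, he⟩ := this
    have he' : g⁻¹ * u * g⁻¹⁻¹ = g⁻¹ * x * g := he
    rw [inv_inv] at he'
    rwa [← mul_left_cancel (mul_right_cancel he')]
  · refine (hmem n).2 (D.normalizer_le (Subgroup.mem_normalizer_iff.2 fun x => ?_))
    have h := Subgroup.mem_normalizer_iff.1 hn (g * x * g⁻¹)
    change g * x * g⁻¹ ∈ (g • R) ↔ n * (g * x * g⁻¹) * n⁻¹ ∈ (g • R) at h
    rw [hmem, hmem, show g⁻¹ * (g * x * g⁻¹) * g = x by group,
      show g⁻¹ * (n * (g * x * g⁻¹) * n⁻¹) * g = g⁻¹ * n * g * x * (g⁻¹ * n * g)⁻¹ by group] at h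
    exact h

end Setup

end CfsgLib.Fsys.DoubleCoverEight
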