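import Cfsg.Agent.Lib.FusionSystem.DoubleCoverEight.Main
import Cfsg.Agent.Lib.Sporadic.OutCert.McL.Cent

/-!
The McLaughlin group satisfies the hypotheses of the double cover criterion.
-/

set_option autoImplicit false
set_option linter.style.haveILetI false

namespace CfsgLib.Fsys.DoubleCoverEight

open CfsgLib.Sporadic.OutCert CfsgLib.Sporadic.OutCert.McL

theorem exists_setup_H : Nonempty (Setup McL.H) := by
  haveI := Fact.mk Nat.prime_two
  obtain ⟨c1, ⟨c2⟩, -⟩ := McL.cover
  let b : McL.C0 := ⟨hB, Subgroup.mem_centralizer_singleton_iff.2 rfl⟩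
  have hb : b ∈ Subgroup.center McL.C0 := Subgroup.mem_center_iff.2 fun g =>
    Subtype.ext (Subgroup.mem_centralizer_singleton_iff.1 g.2)
  have hb1 : b ≠ 1 := fun e => hB_ne_one (congrArg Subtype.val e)
  have hord : orderOf b = 2 := orderOf_eq_prime (by rw [pow_two]; exact Subtype.ext hB_sq) hb1
  have hcen : Subgroup.center McL.C0 = Subgroup.zpowers b := (Subgroup.eq_of_le_of_card_ge
    (Subgroup.zpowers_le.2 hb) (by rw [c1, Nat.card_zpowers, hord])).symm
  obtain ⟨y, -, hy⟩ := B_mem_K0.2
  refine ⟨{ t := hB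
            pr := ((alternatingGroup (Fin 8)).subtype.comp c2.toMonoidHom).comp
              (QuotientGroup.mk' (Subgroup.center McL.C0))
            ord := orderOf_eq_prime (by rw [pow_two]; exact hB_sq) hB_ne_one
            range_eq := ?_
            ker_iff := fun c => ?_
            root := ⟨y, hy⟩
            conj := fun x hx => involution_conj ?_ ?_ }⟩
  · rw [MonoidHom.range_comp, MonoidHom.range_eq_top.2 (QuotientGroup.mk'_surjective _), ← MonoidHom.range_eq_map,
      MonoidHom.range_comp, MonoidHom.range_eq_top.2 c2.surjective, ← MonoidHom.range_eq_map, Subgroup.range_subtype]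
  · show ((c2 (QuotientGroup.mk' _ c) : alternatingGroup (Fin 8)) : Equiv.Perm (Fin 8)) = 1 ↔ _
    rw [OneMemClass.coe_eq_one, EmbeddingLike.map_eq_one_iff, QuotientGroup.mk'_apply, QuotientGroup.eq_one_iff, hcen]
    constructor
    · intro h
      obtain ⟨n, rfl⟩ := Subgroup.mem_zpowers_iff.1 h
      rcases Int.even_or_odd' n with ⟨m, rfl | rfl⟩
      · left
        rw [zpow_mul, show b ^ (2 : ℤ) = 1 from by rw [zpow_two]; exact Subtype.ext hB_sq, one_zpow]; rfl
      · right
        rw [zpow_add, zpow_mul, show b ^ (2 : ℤ) = 1 from by rw [zpow_two]; exact Subtype.ext hB_sq, one_zpow,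
          one_mul, zpow_one]
    · rintro (h | h)
      · rw [show c = 1 from Subtype.ext h]; exact one_mem _
      · rw [show c = b from Subtype.ext h]; exact Subgroup.mem_zpowers b
  · rw [← pow_two, ← hx, pow_orderOf_eq_one]
  · intro e; rw [e, orderOf_one] at hx; omega

/-- Transport along an isomorphism. -/
theorem exists_setup_congr {G H : Type*} [Group G] [Group H] (e : G ≃* H) (D : Setup H) : Nonempty (Setup G) := by
  let φ : Subgroup.centralizer ({e.symm D.t} : Set G) →* Subgroup.centralizer ({D.t} : Set H) :=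
    { toFun := fun c => ⟨e c, Subgroup.mem_centralizer_singleton_iff.2 (by
        have h := congrArg e (Subgroup.mem_centralizer_singleton_iff.1 c.2)
        simpa using h)⟩
      map_one' := Subtype.ext (map_one e)
      map_mul' := fun a b => Subtype.ext (map_mul e _ _) }
  have hφ : Function.Surjective φ := fun c =>
    ⟨⟨e.symm c, Subgroup.mem_centralizer_singleton_iff.2 (by
      rw [← map_mul, ← map_mul, Subgroup.mem_centralizer_singleton_iff.1 c.2])⟩,
      Subtype.ext (e.apply_symm_apply _)⟩
  refine ⟨{ t := e.symm D.t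
            pr := D.pr.comp φ
            ord := by rw [MulEquiv.orderOf_eq, D.ord]
            range_eq := by rw [MonoidHom.range_comp, MonoidHom.range_eq_top.2 hφ, ← MonoidHom.range_eq_map, D.range_eq]
            ker_iff := fun c => ?_
            root := ?_
            conj := fun x hx => ?_ }⟩
  · rw [MonoidHom.comp_apply, D.ker_iff]
    show e c = 1 ∨ e c = D.t ↔ _
    rw [EmbeddingLike.map_eq_one_iff, ← e.eq_symm_apply]
  · obtain ⟨y, hy⟩ := D.root
    obtain ⟨c, rfl⟩ := hφ y
    refine ⟨c, e.injective ?_⟩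
    rw [map_mul, e.apply_symm_apply]
    exact hy
  · have := e.symm.toMonoidHom.map_isConj (D.conj (e x) (by rw [MulEquiv.orderOf_eq, hx]))
    simpa using this

theorem mcl_simple {G : Type*} [Group G] [Finite G] (hG : Cfsg.Spor.IsoMcL G) (S : Sylow 2 G) :
    (Cfsg.groupFusionSystem (S : Subgroup G)).IsSimple 2 := by
  obtain ⟨e₀⟩ := hG
  obtain ⟨e⟩ := McL.H_spec.1
  obtain ⟨D⟩ := exists_setup_H
  obtain ⟨D'⟩ := exists_setup_congr (e₀.trans e) D
  exact Setup.isSimple D' S

end CfsgLib.Fsys.DoubleCoverEight
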