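import Mathlib

/-!
Facts on the Sylow 2-subgroup of the alternating group of degree eight (the stabiliser of a binary tree).
-/

set_option autoImplicit false

namespace CfsgLib.Fsys.DoubleCoverEight

/-- The partner of a letter. -/
def flip1 (i : Fin 8) : Fin 8 := ![1, 0, 3, 2, 5, 4, 7, 6] i

/-- The half containing a letter. -/
def half (i : Fin 8) : Bool := decide ((i : ℕ) < 4)

/-- Preservation of the pairs and of the halves. -/
def TreeFun (f : Fin 8 → Fin 8) : Prop :=
  (∀ i, f (flip1 i) = flip1 (f i)) ∧ ∀ i j, half i = half j → half (f i) = half (f j)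

instance (f : Fin 8 → Fin 8) : Decidable (TreeFun f) := by unfold TreeFun; infer_instance

/-- The candidates: maps commuting with the pairing. -/
def cand (a b c d : Fin 8) : Fin 8 → Fin 8 := ![a, flip1 a, b, flip1 b, c, flip1 c, d, flip1 d]

theorem eq_cand {f : Fin 8 → Fin 8} (h : ∀ i, f (flip1 i) = flip1 (f i)) :
    f = cand (f 0) (f 2) (f 4) (f 6) := by
  funext i
  fin_cases i
  · rfl
  · exact h 0
  · rfl
  · exact h 2
  · rfl
  · exact h 4
  · rfl
  · exact h 6

/-- A permutation given by an involutive table. -/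
def mkInvol (f : Fin 8 → Fin 8) (h : ∀ i, f (f i) = i) : Equiv.Perm (Fin 8) := ⟨f, f, h, h⟩

/-- A permutation given by a table and its inverse. -/
def mkPerm (f g : Fin 8 → Fin 8) (h : ∀ i, g (f i) = i) (h' : ∀ i, f (g i) = i) : Equiv.Perm (Fin 8) :=
  ⟨f, g, h, h'⟩

/-- The product of the four transpositions of the pairs. -/
def z : Equiv.Perm (Fin 8) := mkInvol flip1 (by decide)

/-- An involution commuting with `z`. -/
def z1 : Equiv.Perm (Fin 8) := mkInvol ![2, 3, 0, 1, 5, 4, 7, 6] (by decide)

/-- An element of the tree group used to detect normalization. -/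
def w : Equiv.Perm (Fin 8) := mkInvol ![2, 3, 0, 1, 4, 5, 6, 7] (by decide)

/-- Two translations generating, with `z`, a regular elementary group. -/
def v1 : Equiv.Perm (Fin 8) := mkInvol ![2, 3, 0, 1, 6, 7, 4, 5] (by decide)

/-- The third translation. -/
def v2 : Equiv.Perm (Fin 8) := mkInvol ![4, 5, 6, 7, 0, 1, 2, 3] (by decide)

/-- Six fixed-point-free involutions whose ordered products exhaust the tree group. -/
def gens : Fin 6 → Equiv.Perm (Fin 8) :=
  ![mkInvol ![6, 7, 5, 4, 3, 2, 0, 1] (by decide), mkInvol ![4, 5, 6, 7, 0, 1, 2, 3] (by decide),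
    mkInvol ![1, 0, 3, 2, 5, 4, 7, 6] (by decide), mkInvol ![6, 7, 4, 5, 2, 3, 0, 1] (by decide),
    mkInvol ![2, 3, 0, 1, 5, 4, 7, 6] (by decide), mkInvol ![2, 3, 0, 1, 7, 6, 5, 4] (by decide)]

/-- An ordered product of a subfamily of the six. -/
def word (e : Fin 6 → Bool) : Equiv.Perm (Fin 8) :=
  (List.ofFn fun k => if e k then gens k else 1).prod

/-- The tree group. -/
def tree : Subgroup (Equiv.Perm (Fin 8)) where
  carrier := {σ | TreeFun σ}
  one_mem' := by show TreeFun (⇑(1 : Equiv.Perm (Fin 8))); decide
  mul_mem' {a b} ha hb :=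
    ⟨fun i => by rw [Equiv.Perm.mul_apply, Equiv.Perm.mul_apply, hb.1, ha.1],
      fun i j h => by rw [Equiv.Perm.mul_apply, Equiv.Perm.mul_apply]; exact ha.2 _ _ (hb.2 i j h)⟩
  inv_mem' {a} ha := by
    refine ⟨fun i => a.injective ?_, fun i j h => ?_⟩
    · rw [ha.1, Equiv.Perm.coe_inv, Equiv.apply_symm_apply, Equiv.apply_symm_apply]
    · have key : ∀ f : Fin 8 → Fin 8, (∀ x y, half x = half y → half (f x) = half (f y)) →
          Function.Surjective f → ∀ x y, half (f x) = half (f y) → half x = half y := by
        intro f hf hs x y e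
        by_contra hne
        obtain ⟨t, ht⟩ : ∃ t, half t ≠ half (f x) := by
          cases half (f x)
          · exact ⟨0, by decide⟩
          · exact ⟨4, by decide⟩
        obtain ⟨u, rfl⟩ := hs t
        rcases Bool.eq_false_or_eq_true (half u) with hu | hu <;>
          rcases Bool.eq_false_or_eq_true (half x) with hx | hx <;>
            rcases Bool.eq_false_or_eq_true (half y) with hy | hy
        all_goals first
          | exact ht (hf u x (hu.trans hx.symm))
          | exact ht ((hf u y (hu.trans hy.symm)).trans e.symm)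
          | exact hne (hx.trans hy.symm)
      exact key a ha.2 a.surjective _ _ (by simpa using h)

/-- The Sylow 2-subgroup of the alternating group. -/
def P : Subgroup (Equiv.Perm (Fin 8)) := tree ⊓ alternatingGroup (Fin 8)

theorem mem_tree_iff {σ : Equiv.Perm (Fin 8)} : σ ∈ tree ↔ TreeFun σ := Iff.rfl

theorem cand_props : ∀ a b c d : Fin 8, TreeFun (cand a b c d) → Function.Injective (cand a b c d) →
    cand a b c d ∘ cand a b c d ∘ cand a b c d ∘ cand a b c d ∘ cand a b c d ∘ cand a b c d ∘
      cand a b c d ∘ cand a b c d = id := by decide +kernel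

theorem cand_word : ∀ a b c d : Fin 8, TreeFun (cand a b c d) → Function.Injective (cand a b c d) →
    ∃ e, cand a b c d = ⇑(word e) ∨ cand a b c d = ⇑(word e) ∘ ![1, 0, 2, 3, 4, 5, 6, 7] := by decide +kernel

theorem cand_center : ∀ a b c d : Fin 8, TreeFun (cand a b c d) → Function.Injective (cand a b c d) →
    (∀ k, cand a b c d ∘ ⇑(gens k) = ⇑(gens k) ∘ cand a b c d) →
    cand a b c d = id ∨ cand a b c d = flip1 := by decide +kernel

theorem cand_norm : ∀ a b c d : Fin 8, Function.Injective (cand a b c d) →
    (∀ i j, half (cand a b c d i) = half (cand a b c d j) →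
      half (cand a b c d (w i)) = half (cand a b c d (w j))) →
    ∀ i j, half i = half j → half (cand a b c d i) = half (cand a b c d j) := by decide +kernel

theorem gens_spec : ∀ k, TreeFun (gens k) ∧ Equiv.Perm.sign (gens k) = 1 ∧ gens k * gens k = 1 ∧
    ∀ i, gens k i ≠ i := by decide +kernel

end CfsgLib.Fsys.DoubleCoverEight
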